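import Groth.Agent.AModX.Res
import Groth.Prelude.Def_Mor2

/-!
# The rank of a finite flat morphism is additive on disjoint pieces of the source
-/

set_option autoImplicit false
set_option backward.isDefEq.respectTransparency false
set_option backward.isDefEq.respectTransparency.types false
set_option linter.style.haveILetI false

universe u

open CategoryTheory CategoryTheory.Limits AlgebraicGeometry TopologicalSpace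

namespace Groth.Agent.RootCover

open Groth.Agent.AModX

theorem bijective_resR_pair {Z : Scheme.{u}} {W A B : Z.Opens} (hA : A ≤ W) (hB : B ≤ W)
    (hd : A ⊓ B ≤ ⊥) (hc : W ≤ A ⊔ B) :
    Function.Bijective fun x : Γ(Z, W) => (resR hA x, resR hB x) := by
  let O : ULift.{u} Bool → Z.Opens := fun b => if b.down then A else B
  have hO : ∀ b, O b ≤ W := by rintro ⟨_ | _⟩ <;> assumption
  have hcov : ∀ p ∈ W, ∃ b, p ∈ O b := fun p hp => (hc hp).elim (fun h => ⟨⟨true⟩, h⟩) fun h => ⟨⟨false⟩, h⟩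
  constructor
  · intro x y h
    refine eq_of_locally (M := Coh.structureModule Z) x y fun p hp => ?_
    obtain ⟨⟨_ | _⟩, hb⟩ := hcov p hp
    · exact ⟨B, hB, hb, congrArg Prod.snd h⟩
    · exact ⟨A, hA, hb, congrArg Prod.fst h⟩
  · rintro ⟨a, b⟩
    let sf : ∀ c, Γ(Coh.structureModule Z, O c) := fun c => match c with
      | ⟨true⟩ => a
      | ⟨false⟩ => b
    obtain ⟨x, hx, -⟩ := existsUnique_glue (M := Coh.structureModule Z) O hO hcov sf (by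
      rintro ⟨_ | _⟩ ⟨_ | _⟩
      · rfl
      · exact eq_of_locally _ _ fun p hp => (hd ⟨hp.2, hp.1⟩).elim
      · exact eq_of_locally _ _ fun p hp => (hd ⟨hp.1, hp.2⟩).elim
      · rfl)
    exact ⟨x, Prod.ext (hx ⟨true⟩) (hx ⟨false⟩)⟩

theorem finrank_eq_rankAtStalk {X Y : Scheme.{u}} (π : X ⟶ Y) [IsFinite π] [Flat π] {V : Y.Opens}
    (hV : IsAffineOpen V) (p : PrimeSpectrum Γ(Y, V)) :
    π.finrank (hV.fromSpec p) =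
      (letI : Algebra Γ(Y, V) Γ(X, π ⁻¹ᵁ V) := (π.app V).hom.toAlgebra
       Module.rankAtStalk (R := Γ(Y, V)) Γ(X, π ⁻¹ᵁ V) p) := by
  letI : Algebra Γ(Y, V) Γ(X, π ⁻¹ᵁ V) := (π.app V).hom.toAlgebra
  haveI : Module.Finite Γ(Y, V) Γ(X, π ⁻¹ᵁ V) := π.finite_app _ hV
  haveI : Module.Flat Γ(Y, V) Γ(X, π ⁻¹ᵁ V) := by
    have := π.flat_appLE hV (hV.preimage π) le_rfl
    rwa [Scheme.Hom.appLE_eq_app] at this
  have hsq : IsPullback (hV.preimage π).fromSpec (Spec.map (π.app V)) π hV.fromSpec := by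
    refine IsPullback.flip (IsOpenImmersion.isPullback _ _ _ _ ?_ ?_)
    · rw [← IsAffineOpen.SpecMap_appLE_fromSpec π hV (hV.preimage π) le_rfl, Scheme.Hom.appLE_eq_app]
    · apply Opens.ext
      simp only [Scheme.Hom.coe_opensRange, Scheme.Hom.coe_preimage, IsAffineOpen.range_fromSpec]
  rw [← Scheme.Hom.finrank_of_isPullback _ _ _ _ hsq p]
  exact Scheme.Hom.finrank_SpecMap_algebraMap Γ(Y, V) Γ(X, π ⁻¹ᵁ V) p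

theorem finrank_eq_add {X Y : Scheme.{u}} (π : X ⟶ Y) [IsFinite π] [Flat π] (Z₁ Z₂ : X.Opens)
    (hd : Z₁ ⊓ Z₂ ≤ ⊥) (hc : ⊤ ≤ Z₁ ⊔ Z₂) [IsFinite (Z₁.ι ≫ π)] [IsFinite (Z₂.ι ≫ π)] (y : Y) :
    π.finrank y = (Z₁.ι ≫ π).finrank y + (Z₂.ι ≫ π).finrank y := by
  obtain ⟨_, ⟨V, hV, rfl⟩, hyV, -⟩ :=
    Y.isBasis_affineOpens.exists_subset_of_mem_open (Set.mem_univ y) isOpen_univ
  have hV : IsAffineOpen V := hV
  obtain ⟨p, rfl⟩ : y ∈ Set.range hV.fromSpec := by rw [hV.range_fromSpec]; exact hyV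
  rw [finrank_eq_rankAtStalk π hV p, finrank_eq_rankAtStalk (Z₁.ι ≫ π) hV p,
    finrank_eq_rankAtStalk (Z₂.ι ≫ π) hV p]
  letI : Algebra Γ(Y, V) Γ(X, π ⁻¹ᵁ V) := (π.app V).hom.toAlgebra
  letI i₁ : Algebra Γ(Y, V) Γ(Z₁.toScheme, (Z₁.ι ≫ π) ⁻¹ᵁ V) := ((Z₁.ι ≫ π).app V).hom.toAlgebra
  letI i₂ : Algebra Γ(Y, V) Γ(Z₂.toScheme, (Z₂.ι ≫ π) ⁻¹ᵁ V) := ((Z₂.ι ≫ π).app V).hom.toAlgebra
  haveI : ∀ (Z : X.Opens) [IsFinite (Z.ι ≫ π)],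
      (letI : Algebra Γ(Y, V) Γ(Z.toScheme, (Z.ι ≫ π) ⁻¹ᵁ V) := ((Z.ι ≫ π).app V).hom.toAlgebra
       Module.Finite Γ(Y, V) Γ(Z.toScheme, (Z.ι ≫ π) ⁻¹ᵁ V) ∧ Module.Flat Γ(Y, V) Γ(Z.toScheme, (Z.ι ≫ π) ⁻¹ᵁ V)) :=
    fun Z _ => by
      refine ⟨(Z.ι ≫ π).finite_app _ hV, ?_⟩
      have h := (Z.ι ≫ π).flat_appLE hV (hV.preimage (Z.ι ≫ π)) le_rfl
      rwa [Scheme.Hom.appLE_eq_app] at h
  obtain ⟨h₁, h₁'⟩ := this Z₁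
  obtain ⟨h₂, h₂'⟩ := this Z₂
  let f : Γ(X, π ⁻¹ᵁ V) →ₗ[Γ(Y, V)] Γ(Z₁.toScheme, (Z₁.ι ≫ π) ⁻¹ᵁ V) × Γ(Z₂.toScheme, (Z₂.ι ≫ π) ⁻¹ᵁ V) :=
    { toFun := fun x => (Z₁.ι.app (π ⁻¹ᵁ V) x, Z₂.ι.app (π ⁻¹ᵁ V) x)
      map_add' := fun x x' => Prod.ext (map_add _ x x') (map_add _ x x')
      map_smul' := fun r x => Prod.ext (map_mul (Z₁.ι.app (π ⁻¹ᵁ V)).hom (π.app V r) x)
        (map_mul (Z₂.ι.app (π ⁻¹ᵁ V)).hom (π.app V r) x) }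
  have hm : ∀ (Z : X.Opens) {q : X}, q ∈ Z.ι ''ᵁ (Z.ι ⁻¹ᵁ π ⁻¹ᵁ V) ↔ q ∈ Z ∧ π q ∈ V := fun Z {q} => by
    rw [Scheme.Hom.image_preimage_eq_opensRange_inf, Scheme.Opens.opensRange_ι]
    exact Iff.rfl
  have hf : Function.Bijective f := bijective_resR_pair (Z := X) (W := π ⁻¹ᵁ V)
    (A := Z₁.ι ''ᵁ (Z₁.ι ⁻¹ᵁ π ⁻¹ᵁ V)) (B := Z₂.ι ''ᵁ (Z₂.ι ⁻¹ᵁ π ⁻¹ᵁ V))
    (fun q hq => ((hm Z₁).1 hq).2) (fun q hq => ((hm Z₂).1 hq).2)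
    (fun q hq => hd ⟨((hm Z₁).1 hq.1).1, ((hm Z₂).1 hq.2).1⟩)
    (fun q hq => (hc (Set.mem_univ q)).elim (fun h => Or.inl ((hm Z₁).2 ⟨h, hq⟩))
      fun h => Or.inr ((hm Z₂).2 ⟨h, hq⟩))
  haveI : Module.Finite Γ(Y, V) Γ(X, π ⁻¹ᵁ V) := π.finite_app _ hV
  rw [Module.rankAtStalk_eq_of_equiv (LinearEquiv.ofBijective f hf), Module.rankAtStalk_prod]
  rfl

end Groth.Agent.RootCover
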