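import Groth.Agent.AModX.Res
import Mathlib.RingTheory.AdjoinRoot
import Mathlib.AlgebraicGeometry.AffineScheme

/-!
# The scheme of `d`-th roots of a function over an affine open
-/

set_option autoImplicit false
set_option backward.isDefEq.respectTransparency false
set_option backward.isDefEq.respectTransparency.types false

universe u

open CategoryTheory AlgebraicGeometry Polynomial

namespace Groth.Agent.RootCover

open Groth.Agent.AModX

noncomputable section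

variable {X : Scheme.{u}}

/-- Pulling back a function on an open containing the image. -/
def ev {T : Scheme.{u}} (g : T ⟶ X) (V : X.Opens) (hV : ∀ t, g t ∈ V) : Γ(X, V) →+* Γ(T, ⊤) :=
  (g.appLE V ⊤ (fun t _ => hV t)).hom

lemma ev_congr {T : Scheme.{u}} {g g' : T ⟶ X} (e : g = g') (V : X.Opens) (hV : ∀ t, g t ∈ V)
    (hV' : ∀ t, g' t ∈ V) (b : Γ(X, V)) : ev g V hV b = ev g' V hV' b := by
  subst e; rfl

lemma ev_res {T : Scheme.{u}} (g : T ⟶ X) {V W : X.Opens} (h : W ≤ V) (hW : ∀ t, g t ∈ W)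
    (b : Γ(X, V)) : ev g W hW (resR h b) = ev g V (fun t => h (hW t)) b :=
  ConcreteCategory.congr_hom (g.map_appLE (V := ⊤) (fun t _ => hW t) (homOfLE h).op) b

lemma ev_comp {T T' : Scheme.{u}} (q : T' ⟶ T) (g : T ⟶ X) (V : X.Opens) (hV : ∀ t, g t ∈ V)
    (b : Γ(X, V)) : q.appTop (ev g V hV b) = ev (q ≫ g) V (fun t => hV (q t)) b := by
  have h := Scheme.Hom.appLE_comp_appLE q g V ⊤ ⊤ (fun t _ => hV t) le_top
  have h0 : q.appTop = q.appLE ⊤ ⊤ le_top := (Scheme.Hom.appLE_eq_app q).symm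
  rw [h0]
  exact ConcreteCategory.congr_hom h b

lemma ev_app {T Y : Scheme.{u}} (g : T ⟶ Y) (f : Y ⟶ X) (V : X.Opens) (hV : ∀ t, f (g t) ∈ V)
    (b : Γ(X, V)) : ev g (f ⁻¹ᵁ V) hV (f.app V b) = ev (g ≫ f) V hV b := by
  have h := Scheme.Hom.appLE_comp_appLE g f V (f ⁻¹ᵁ V) ⊤ le_rfl (fun t _ => hV t)
  rw [Scheme.Hom.appLE_eq_app] at h
  exact ConcreteCategory.congr_hom h b

lemma ev_self (V : X.Opens) (b : Γ(X, V)) : ev V.ι V (fun t => t.2) b = V.topIso.inv b := by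
  simp only [ev, Scheme.Opens.ι_appLE, Scheme.Opens.topIso_inv]
  rfl

lemma ev_lift {T : Scheme.{u}} (V : X.Opens) (x : T ⟶ V.toScheme) (b : Γ(X, V)) :
    ev (x ≫ V.ι) V (fun t => (x t).2) b = x.appTop (V.topIso.inv b) := by
  rw [← ev_self]
  exact (ev_comp x V.ι V (fun t => t.2) b).symm

lemma resR_eq_of_ev {W V : X.Opens} (h h' : W ≤ V) {b c : Γ(X, V)}
    (e : ev W.ι V (fun t => h t.2) b = ev W.ι V (fun t => h' t.2) c) : resR h b = resR h' c := by
  rw [← ev_res W.ι h (fun t => t.2), ← ev_res W.ι h' (fun t => t.2), ev_self, ev_self] at e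
  exact W.topIso.commRingCatIsoToRingEquiv.symm.injective e

variable {U : X.Opens} (hU : IsAffineOpen U) (a : Γ(X, U)) (d : ℕ)

/-- The ring of `d`-th roots. -/
abbrev Rt : Type u := AdjoinRoot (Polynomial.X ^ d - C a : Γ(X, U)[X])

/-- The scheme of `d`-th roots. -/
abbrev Wt : Scheme.{u} := Spec (CommRingCat.of (Rt a d))

/-- Its structure map. -/
def toU : Wt a d ⟶ U.toScheme :=
  Spec.map (CommRingCat.ofHom (AdjoinRoot.of _ : Γ(X, U) →+* Rt a d)) ≫ hU.isoSpec.inv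

/-- The root. -/
def rt : Γ(Wt a d, ⊤) := (Scheme.ΓSpecIso (CommRingCat.of (Rt a d))).inv (AdjoinRoot.root _)

lemma toU_appTop (b : Γ(X, U)) :
    (toU hU a d).appTop (U.topIso.inv b) =
      (Scheme.ΓSpecIso (CommRingCat.of (Rt a d))).inv (AdjoinRoot.of _ b) := by
  have h1 : hU.isoSpec.inv.appTop (U.topIso.inv b) = (Scheme.ΓSpecIso Γ(X, U)).inv b := by
    rw [hU.isoSpec_inv_appTop, CommRingCat.comp_apply]
    exact congrArg _ (ConcreteCategory.congr_hom U.topIso.inv_hom_id b)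
  rw [toU, Scheme.Hom.comp_appTop, CommRingCat.comp_apply]
  refine (congrArg _ h1).trans ?_
  exact (ConcreteCategory.congr_hom
    (Scheme.ΓSpecIso_inv_naturality (CommRingCat.ofHom (AdjoinRoot.of _ : Γ(X, U) →+* Rt a d))) b).symm

lemma rt_pow : rt a d ^ d = ev (toU hU a d ≫ U.ι) U (fun t => (toU hU a d t).2) a := by
  rw [ev_lift, toU_appTop, rt, ← map_pow]
  refine congrArg _ ?_
  have h := AdjoinRoot.eval₂_root (Polynomial.X ^ d - C a : Γ(X, U)[X])
  rw [eval₂_sub, eval₂_X_pow, eval₂_C, sub_eq_zero] at h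
  exact h

variable {T : Scheme.{u}}

lemma wt_hom_ext {v w : T ⟶ Wt a d} (h₁ : v ≫ toU hU a d = w ≫ toU hU a d)
    (h₂ : v.appTop (rt a d) = w.appTop (rt a d)) : v = w := by
  refine ext_of_isAffine (CommRingCat.hom_ext ?_)
  have e : ((Scheme.ΓSpecIso (CommRingCat.of (Rt a d))).inv ≫ v.appTop).hom =
      ((Scheme.ΓSpecIso (CommRingCat.of (Rt a d))).inv ≫ w.appTop).hom := by
    refine Ideal.Quotient.ringHom_ext (Polynomial.ringHom_ext (fun b => ?_) h₂)
    show v.appTop ((Scheme.ΓSpecIso _).inv (AdjoinRoot.of _ b)) =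
      w.appTop ((Scheme.ΓSpecIso _).inv (AdjoinRoot.of _ b))
    rw [← toU_appTop hU a d b]
    exact ConcreteCategory.congr_hom (congrArg Scheme.Hom.appTop h₁) _
  ext z
  obtain ⟨z, rfl⟩ := (Scheme.ΓSpecIso (CommRingCat.of (Rt a d))).commRingCatIsoToRingEquiv.symm.surjective z
  exact congr($e z)

lemma exists_lift (x : T ⟶ U.toScheme) (h : Γ(T, ⊤))
    (hh : h ^ d = ev (x ≫ U.ι) U (fun t => (x t).2) a) :
    ∃ v : T ⟶ Wt a d, v ≫ toU hU a d = x ∧ v.appTop (rt a d) = h := by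
  let ψ : Γ(X, U) →+* Γ(T, ⊤) := x.appTop.hom.comp U.topIso.inv.hom
  let φ : Rt a d →+* Γ(T, ⊤) := AdjoinRoot.lift ψ h (by
    rw [eval₂_sub, eval₂_X_pow, eval₂_C, sub_eq_zero, hh, ev_lift]
    rfl)
  let v : T ⟶ Wt a d := T.toSpecΓ ≫ Spec.map (CommRingCat.ofHom φ)
  have hv : ∀ z, v.appTop ((Scheme.ΓSpecIso (CommRingCat.of (Rt a d))).inv z) = φ z := fun z => by
    simp only [v, Scheme.Hom.comp_appTop, CommRingCat.comp_apply]
    rw [← CommRingCat.comp_apply (Scheme.ΓSpecIso _).inv, ← Scheme.ΓSpecIso_inv_naturality,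
      CommRingCat.comp_apply, Scheme.toSpecΓ_appTop]
    exact ConcreteCategory.congr_hom (Scheme.ΓSpecIso Γ(T, ⊤)).inv_hom_id _
  haveI : IsAffine U.toScheme := hU
  refine ⟨v, ext_of_isAffine (CommRingCat.hom_ext ?_), (hv _).trans (AdjoinRoot.lift_root _)⟩
  ext z
  obtain ⟨z, rfl⟩ := U.topIso.commRingCatIsoToRingEquiv.symm.surjective z
  show (v ≫ toU hU a d).appTop (U.topIso.inv z) = x.appTop (U.topIso.inv z)
  rw [Scheme.Hom.comp_appTop, CommRingCat.comp_apply, toU_appTop, hv]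
  exact AdjoinRoot.lift_of _

end

end Groth.Agent.RootCover
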