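import Groth.Agent.RootCover.Affine
import Groth.Agent.DescLib.GlueFam

/-!
# Glueing schemes of roots along a multiplicative cocycle
-/

set_option autoImplicit false
set_option backward.isDefEq.respectTransparency false
set_option backward.isDefEq.respectTransparency.types false
set_option linter.style.haveILetI false

universe u

open CategoryTheory CategoryTheory.Limits AlgebraicGeometry Desc

namespace Groth.Agent.RootCover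

open Groth.Agent.AModX

noncomputable section

variable (X : Scheme.{u}) (d : ℕ)

/-- Functions on an affine cover together with a cocycle relating them up to `d`-th powers. -/
structure Data where
  /-- index -/
  ι : Type u
  /-- the cover -/
  U : ι → X.Opens
  hU : ∀ i, IsAffineOpen (U i)
  hcov : ∀ x : X, ∃ i, x ∈ U i
  /-- the functions -/
  a : ∀ i, Γ(X, U i)
  /-- the cocycle -/
  k : ∀ i j, Γ(X, U i ⊓ U j)
  k_self : ∀ i, k i i = 1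
  k_comp : ∀ (i j l : ι) (V : X.Opens) (hij : V ≤ U i ⊓ U j) (hjl : V ≤ U j ⊓ U l) (hil : V ≤ U i ⊓ U l),
    resR hil (k i l) = resR hij (k i j) * resR hjl (k j l)
  k_pow : ∀ i j, resR (inf_le_right : U i ⊓ U j ≤ U j) (a j) =
    k i j ^ d * resR (inf_le_left : U i ⊓ U j ≤ U i) (a i)

namespace Data

variable {X d} (D : Data X d)

/-- The members. -/
abbrev W (i : D.ι) : Scheme.{u} := Wt (D.a i) d

/-- Structure maps of the members. -/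
abbrev p (i : D.ι) : D.W i ⟶ (D.U i).toScheme := toU (D.hU i) (D.a i) d

/-- The root on a member. -/
abbrev r (i : D.ι) : Γ(D.W i, ⊤) := rt (D.a i) d

variable {T : Scheme.{u}} {i j l : D.ι}

lemma mem_inf {x₀ : T ⟶ (D.U i).toScheme} {x₁ : T ⟶ (D.U j).toScheme}
    (h : x₀ ≫ (D.U i).ι = x₁ ≫ (D.U j).ι) (t : T) : (x₀ ≫ (D.U i).ι) t ∈ D.U i ⊓ D.U j :=
  ⟨(x₀ t).2, by
    rw [h]
    exact (x₁ t).2⟩

/-- The cocycle pulled back to points. -/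
def κ (x₀ : T ⟶ (D.U i).toScheme) (x₁ : T ⟶ (D.U j).toScheme)
    (h : x₀ ≫ (D.U i).ι = x₁ ≫ (D.U j).ι) : Γ(T, ⊤) :=
  ev (x₀ ≫ (D.U i).ι) (D.U i ⊓ D.U j) (D.mem_inf h) (D.k i j)

lemma κ_self (x : T ⟶ (D.U i).toScheme) : D.κ x x rfl = 1 := by
  rw [κ, D.k_self, map_one]

lemma κ_comp (x₀ : T ⟶ (D.U i).toScheme) (x₁ : T ⟶ (D.U j).toScheme) (x₂ : T ⟶ (D.U l).toScheme)
    (h₀₁ : x₀ ≫ (D.U i).ι = x₁ ≫ (D.U j).ι) (h₁₂ : x₁ ≫ (D.U j).ι = x₂ ≫ (D.U l).ι)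
    (h₀₂ : x₀ ≫ (D.U i).ι = x₂ ≫ (D.U l).ι) :
    D.κ x₀ x₁ h₀₁ * D.κ x₁ x₂ h₁₂ = D.κ x₀ x₂ h₀₂ := by
  let V := D.U i ⊓ D.U j ⊓ D.U l
  have hV : ∀ t, (x₀ ≫ (D.U i).ι) t ∈ V := fun t => ⟨D.mem_inf h₀₁ t, (D.mem_inf h₀₂ t).2⟩
  have e := congrArg (ev (x₀ ≫ (D.U i).ι) V hV) (D.k_comp i j l V inf_le_left
    (le_inf (inf_le_left.trans inf_le_right) inf_le_right)
    (le_inf (inf_le_left.trans inf_le_left) inf_le_right))
  rw [map_mul, ev_res, ev_res, ev_res] at e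
  rw [κ, κ, κ, e]
  exact congrArg _ (ev_congr h₀₁.symm _ _ _ _)

lemma κ_nat {T' : Scheme.{u}} (g : T' ⟶ T) (x₀ : T ⟶ (D.U i).toScheme) (x₁ : T ⟶ (D.U j).toScheme)
    (h : x₀ ≫ (D.U i).ι = x₁ ≫ (D.U j).ι) (y₀ : T' ⟶ (D.U i).toScheme) (y₁ : T' ⟶ (D.U j).toScheme)
    (e₀ : g ≫ x₀ = y₀) (h' : y₀ ≫ (D.U i).ι = y₁ ≫ (D.U j).ι) :
    g.appTop (D.κ x₀ x₁ h) = D.κ y₀ y₁ h' := by
  subst e₀
  rw [κ, κ, ev_comp]
  exact ev_congr (Category.assoc _ _ _).symm _ _ _ _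

lemma root_pow {x : T ⟶ (D.U i).toScheme} (v : T ⟶ D.W i) (hv : v ≫ D.p i = x) :
    v.appTop (D.r i) ^ d = ev (x ≫ (D.U i).ι) (D.U i) (fun t => (x t).2) (D.a i) := by
  subst hv
  rw [← map_pow, r, rt_pow (D.hU i), ev_comp]
  exact ev_congr (Category.assoc _ _ _).symm _ _ _ _

lemma exists_move (x₀ : T ⟶ (D.U i).toScheme) (x₁ : T ⟶ (D.U j).toScheme)
    (h : x₀ ≫ (D.U i).ι = x₁ ≫ (D.U j).ι) (v : T ⟶ D.W i) (hv : v ≫ D.p i = x₀) :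
    ∃ w : T ⟶ D.W j, w ≫ D.p j = x₁ ∧ w.appTop (D.r j) = D.κ x₀ x₁ h * v.appTop (D.r i) := by
  refine exists_lift (D.hU j) (D.a j) d x₁ _ ?_
  have e := congrArg (ev (x₀ ≫ (D.U i).ι) _ (D.mem_inf h)) (D.k_pow i j)
  rw [map_mul, map_pow, ev_res, ev_res] at e
  rw [mul_pow, D.root_pow v hv, ← ev_congr h (D.U j) (fun t => (D.mem_inf h t).2) _ _, e]
  rfl

/-- Moving points between members. -/
def move (x₀ : T ⟶ (D.U i).toScheme) (x₁ : T ⟶ (D.U j).toScheme)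
    (h : x₀ ≫ (D.U i).ι = x₁ ≫ (D.U j).ι) (v : Lifts (Over.mk (D.p i)) x₀) :
    Lifts (Over.mk (D.p j)) x₁ :=
  ⟨(D.exists_move x₀ x₁ h v.1 v.2).choose, (D.exists_move x₀ x₁ h v.1 v.2).choose_spec.1⟩

lemma move_root (x₀ : T ⟶ (D.U i).toScheme) (x₁ : T ⟶ (D.U j).toScheme)
    (h : x₀ ≫ (D.U i).ι = x₁ ≫ (D.U j).ι) (v : Lifts (Over.mk (D.p i)) x₀) :
    (D.move x₀ x₁ h v).1.appTop (D.r j) = D.κ x₀ x₁ h * v.1.appTop (D.r i) :=
  (D.exists_move x₀ x₁ h v.1 v.2).choose_spec.2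

lemma lifts_ext {x : T ⟶ (D.U i).toScheme} {v w : Lifts (Over.mk (D.p i)) x}
    (h : v.1.appTop (D.r i) = w.1.appTop (D.r i)) : v = w :=
  Subtype.ext (wt_hom_ext (D.hU i) _ _ (v.2.trans w.2.symm) h)

lemma move_move (x₀ : T ⟶ (D.U i).toScheme) (x₁ : T ⟶ (D.U j).toScheme) (x₂ : T ⟶ (D.U l).toScheme)
    (h₀₁ : x₀ ≫ (D.U i).ι = x₁ ≫ (D.U j).ι) (h₁₂ : x₁ ≫ (D.U j).ι = x₂ ≫ (D.U l).ι)
    (h₀₂ : x₀ ≫ (D.U i).ι = x₂ ≫ (D.U l).ι) (v : Lifts (Over.mk (D.p i)) x₀) :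
    D.move x₁ x₂ h₁₂ (D.move x₀ x₁ h₀₁ v) = D.move x₀ x₂ h₀₂ v := by
  refine D.lifts_ext ?_
  rw [move_root, move_root, move_root, ← mul_assoc, mul_comm (D.κ x₁ x₂ h₁₂), D.κ_comp x₀ x₁ x₂ h₀₁ h₁₂ h₀₂]

lemma move_self (x : T ⟶ (D.U i).toScheme) (v : Lifts (Over.mk (D.p i)) x) : D.move x x rfl v = v := by
  refine D.lifts_ext ?_
  rw [move_root, κ_self, one_mul]

/-- The descent datum of the members. -/
def fam : SchDDFam.{u} fun i => (D.U i).ι where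
  obj i := Over.mk (D.p i)
  φ _ _ _ x₀ x₁ h :=
    { toFun := D.move x₀ x₁ h
      invFun := D.move x₁ x₀ h.symm
      left_inv := fun v => (D.move_move x₀ x₁ x₀ h h.symm rfl v).trans (D.move_self x₀ v)
      right_inv := fun v => (D.move_move x₁ x₀ x₁ h.symm h rfl v).trans (D.move_self x₁ v) }
  φ_natural T T' g i j x₀ x₁ h y₀ y₁ e₀ e₁ h' v v' hv := by
    refine congrArg Subtype.val (D.lifts_ext (v := D.move y₀ y₁ h' v')
      (w := ⟨g ≫ (D.move x₀ x₁ h v).1, by rw [Category.assoc, (D.move x₀ x₁ h v).2, e₁]⟩) ?_)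
    rw [move_root, hv]
    show _ = (g ≫ (D.move x₀ x₁ h v).1).appTop (D.r j)
    rw [Scheme.Hom.comp_appTop, Scheme.Hom.comp_appTop, CommRingCat.comp_apply, CommRingCat.comp_apply]
    exact (congrArg (· * _) (D.κ_nat g x₀ x₁ h y₀ y₁ e₀ h').symm).trans
      ((map_mul g.appTop.hom _ _).symm.trans (congrArg _ (D.move_root x₀ x₁ h v).symm))
  φ_self _ _ x v := D.move_self x v
  φ_comp _ _ _ _ x₀ x₁ x₂ h₀₁ h₁₂ v := D.move_move x₀ x₁ x₂ h₀₁ h₁₂ _ v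

theorem nonempty_glued : Nonempty (DescLib.GlueFam.Glued D.fam id fun i => (D.U i).ι) :=
  DescLib.GlueFam.exists_glued D.fam id (𝟙 X) (fun i => (D.U i).ι) fun _ => Category.comp_id _

/-- The glued scheme. -/
def glued : DescLib.GlueFam.Glued D.fam id fun i => (D.U i).ι := D.nonempty_glued.some

/-- The cover. -/
abbrev Z : Scheme.{u} := D.glued.Z

/-- Its structure map. -/
abbrev π : D.Z ⟶ X := D.glued.π

/-- The charts. -/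
abbrev inc (i : D.ι) : D.W i ⟶ D.Z := D.glued.inc i

instance (i : D.ι) : IsOpenImmersion (D.inc i) := D.glued.inc_open i

lemma inc_π (i : D.ι) : D.inc i ≫ D.π = D.p i ≫ (D.U i).ι := D.glued.inc_π i

lemma exists_comp_inc {P : Scheme.{u}} {i j : D.ι} (v : P ⟶ D.W i) (x : P ⟶ (D.U j).toScheme)
    (hx : v ≫ D.p i ≫ (D.U i).ι = x ≫ (D.U j).ι) :
    ∃ w : P ⟶ D.W j, w ≫ D.p j = x ∧ v ≫ D.inc i = w ≫ D.inc j ∧
      w.appTop (D.r j) = D.κ (v ≫ D.p i) x (by rw [Category.assoc]; exact hx) * v.appTop (D.r i) :=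
  ⟨(D.move (v ≫ D.p i) x (by rw [Category.assoc]; exact hx) ⟨v, rfl⟩).1,
    (D.move _ x _ ⟨v, rfl⟩).2, D.glued.compat i j v x hx hx, D.move_root _ x _ ⟨v, rfl⟩⟩

lemma root_of_eq {P : Scheme.{u}} {i j : D.ι} (v : P ⟶ D.W i) (w : P ⟶ D.W j)
    (h : v ≫ D.inc i = w ≫ D.inc j)
    (h' : (v ≫ D.p i) ≫ (D.U i).ι = (w ≫ D.p j) ≫ (D.U j).ι) :
    w.appTop (D.r j) = D.κ (v ≫ D.p i) (w ≫ D.p j) h' * v.appTop (D.r i) := by
  obtain ⟨w', h1, h2, h3⟩ := D.exists_comp_inc v (w ≫ D.p j) ((Category.assoc _ _ _).symm.trans h')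
  rwa [(cancel_mono (D.inc j)).1 (h2.symm.trans h)] at h3

lemma preimage_eq (i : D.ι) : D.π ⁻¹ᵁ D.U i = (D.inc i).opensRange := by
  refine le_antisymm (fun z hz => ?_) ?_
  · obtain ⟨j, y, rfl⟩ := D.glued.inc_surj z
    let P := (D.inc j ≫ D.π) ⁻¹ᵁ D.U i
    have hP : Set.range (P.ι ≫ D.p j ≫ (D.U j).ι) ⊆ Set.range (D.U i).ι := by
      rintro _ ⟨t, rfl⟩
      rw [← D.inc_π, Scheme.Opens.range_ι]
      exact t.2
    obtain ⟨w, -, h2, -⟩ := D.exists_comp_inc P.ι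
      (IsOpenImmersion.lift (D.U i).ι (P.ι ≫ D.p j ≫ (D.U j).ι) hP) (IsOpenImmersion.lift_fac _ _ _).symm
    refine ⟨w ⟨y, hz⟩, ?_⟩
    show (w ≫ D.inc i) ⟨y, hz⟩ = _
    rw [← h2]
    rfl
  · rintro _ ⟨y, rfl⟩
    show (D.inc i ≫ D.π) y ∈ D.U i
    rw [inc_π]
    exact (D.p i y).2

lemma isPullback (i : D.ι) : IsPullback (D.p i) (D.inc i) (D.U i).ι D.π :=
  IsOpenImmersion.isPullback (D.p i) (D.inc i) (D.U i).ι D.π (D.inc_π i)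
    (by rw [Scheme.Opens.opensRange_ι]; exact D.preimage_eq i)

/-- The chart of a point of a preimage. -/
def toW (i : D.ι) : (D.π ⁻¹ᵁ D.U i).toScheme ⟶ D.W i :=
  IsOpenImmersion.lift (D.inc i) (D.π ⁻¹ᵁ D.U i).ι
    (by rw [Scheme.Opens.range_ι, D.preimage_eq i]; rfl)

lemma toW_inc (i : D.ι) : D.toW i ≫ D.inc i = (D.π ⁻¹ᵁ D.U i).ι := IsOpenImmersion.lift_fac _ _ _

/-- The root on the preimage. -/
def η (i : D.ι) : Γ(D.Z, D.π ⁻¹ᵁ D.U i) :=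
  (D.π ⁻¹ᵁ D.U i).topIso.hom ((D.toW i).appTop (D.r i))

lemma isUnit_η (hd : 0 < d) (ha : ∀ i, IsUnit (D.a i)) (i : D.ι) : IsUnit (D.η i) := by
  refine IsUnit.map (D.π ⁻¹ᵁ D.U i).topIso.hom.hom (IsUnit.map (D.toW i).appTop.hom ?_)
  refine (isUnit_pow_iff hd.ne').1 ?_
  rw [r, rt_pow (D.hU i)]
  exact (ha i).map _

lemma ev_η {P : Scheme.{u}} (i : D.ι) (g : P ⟶ D.Z) (hg : ∀ t, g t ∈ D.π ⁻¹ᵁ D.U i) :
    ∃ v : P ⟶ D.W i, v ≫ D.inc i = g ∧ v.appTop (D.r i) = ev g _ hg (D.η i) := by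
  let w := IsOpenImmersion.lift (D.π ⁻¹ᵁ D.U i).ι g (by
    rintro _ ⟨t, rfl⟩
    rw [Scheme.Opens.range_ι]
    exact hg t)
  have hw : w ≫ (D.π ⁻¹ᵁ D.U i).ι = g := IsOpenImmersion.lift_fac _ _ _
  refine ⟨w ≫ D.toW i, by rw [Category.assoc, toW_inc, hw], ?_⟩
  rw [← ev_congr hw _ (fun t => (w t).2) hg, ev_lift, Scheme.Hom.comp_appTop, CommRingCat.comp_apply, η]
  exact congrArg _ (ConcreteCategory.congr_hom (D.π ⁻¹ᵁ D.U i).topIso.hom_inv_id _).symm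

theorem η_eq (i j : D.ι) {V : D.Z.Opens} (hV : V ≤ D.π ⁻¹ᵁ (D.U i ⊓ D.U j)) :
    resR (fun z hz => (hV hz).2 : V ≤ D.π ⁻¹ᵁ D.U j) (D.η j) =
      resR hV (D.π.app (D.U i ⊓ D.U j) (D.k i j)) *
        resR (fun z hz => (hV hz).1 : V ≤ D.π ⁻¹ᵁ D.U i) (D.η i) := by
  refine V.topIso.commRingCatIsoToRingEquiv.symm.injective ?_
  show V.topIso.inv _ = V.topIso.inv _
  rw [← ev_self, ← ev_self, map_mul, ev_res, ev_res, ev_res, ev_app]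
  obtain ⟨v, hv, hv'⟩ := D.ev_η i V.ι (fun t => (hV t.2).1)
  obtain ⟨w, hw, hw'⟩ := D.ev_η j V.ι (fun t => (hV t.2).2)
  have e : ∀ {m : D.ι} (q : V.toScheme ⟶ D.W m), q ≫ D.inc m = V.ι →
      (q ≫ D.p m) ≫ (D.U m).ι = V.ι ≫ D.π := fun {m} q hq => by
    rw [Category.assoc, ← D.inc_π, ← Category.assoc, hq]
  rw [← hv', ← hw', D.root_of_eq v w (hv.trans hw.symm) ((e v hv).trans (e w hw).symm)]
  exact congrArg (· * _) (ev_congr (e v hv) _ _ _ _)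

end Data

end

end Groth.Agent.RootCover
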