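import Groth.Agent.RootCover.Props
import Groth.Agent.AmpleX.Extend
import Groth.Agent.InvX.GenLocusPull
import Groth.Agent.TorsPic.Iso
import Groth.Prelude.Def_Pic

/-!
# The cyclic cover of a module with trivialised power
-/

set_option autoImplicit false
set_option backward.isDefEq.respectTransparency false
set_option backward.isDefEq.respectTransparency.types false
set_option linter.style.haveILetI false
set_option maxHeartbeats 1000000

universe u

open CategoryTheory CategoryTheory.Limits AlgebraicGeometry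

namespace Groth.Agent.RootCover

open Groth.Agent Groth.Agent.AModX

theorem isUnit_of_isFrame {Y : Scheme.{u}} {W : Y.Opens} {c : Γ(Coh.structureModule Y, W)}
    (hc : InvX.IsFrame c) : IsUnit (show Γ(Y, W) from c) := by
  obtain ⟨r, hr⟩ := hc.exists_coord le_rfl (show Γ(Coh.structureModule Y, W) from (1 : Γ(Y, W)))
  rw [res_self] at hr
  exact IsUnit.of_mul_eq_one r ((mul_comm _ _).trans hr.symm)

theorem isFrame_of_isUnit {Y : Scheme.{u}} {W : Y.Opens} {c : Γ(Y, W)} (hc : IsUnit c) :
    InvX.IsFrame (show Γ(Coh.structureModule Y, W) from c) := by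
  have h1 := (InvX.isFrame_one W).isUnit_smul hc
  have h2 : c • (show Γ(Coh.structureModule Y, W) from (1 : Γ(Y, W))) =
      (show Γ(Coh.structureModule Y, W) from c) := _root_.mul_one c
  rwa [h2] at h1

/-- The cover of a module whose `d`-th power is trivialised. -/
theorem exists_cover {X : Scheme.{u}} (L : X.Modules) (hL : PicF.IsInvertible L) (d : ℕ) (hd : 0 < d)
    (θ : CohB1.tensorPow L d ≅ Coh.structureModule X) :
    ∃ (X' : Scheme.{u}) (g : X' ⟶ X), Mor2.IsFinLocFreeOfDeg d g ∧
      (IsUnit ((d : ℕ) : (Γ(X, ⊤) : Type u)) → Etale g) ∧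
      Nonempty ((Scheme.Modules.pullback g).obj L ≅ Coh.structureModule X') := by
  classical
  have hfr : ∀ x : X, ∃ (U : X.Opens) (_ : IsAffineOpen U) (_ : x ∈ U) (e : Γ(L, U)), InvX.IsFrame e := fun x => by
    obtain ⟨U, hxU, e, he⟩ := InvX.exists_frame hL x
    obtain ⟨_, ⟨W, hW, rfl⟩, hxW, hle⟩ :=
      X.isBasis_affineOpens.exists_subset_of_mem_open (show x ∈ U from hxU) U.2
    exact ⟨W, hW, hxW, _, he.res (show W ≤ U from hle)⟩
  choose U hU hxU e he using hfr
  have hk : ∀ i j, ∃ k : Γ(X, U i ⊓ U j),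
      res L (inf_le_right : U i ⊓ U j ≤ U j) (e j) = k • res L (inf_le_left : U i ⊓ U j ≤ U i) (e i) :=
    fun i j => (he i).exists_coord _ _
  choose k hk using hk
  have hkV : ∀ (i j : X) (V : X.Opens) (h : V ≤ U i ⊓ U j),
      res L (h.trans inf_le_right) (e j) = resR h (k i j) • res L (h.trans inf_le_left) (e i) := fun i j V h => by
    have := congrArg (res L h) (hk i j)
    rwa [res_res, res_smul, res_res] at this
  let a : ∀ x, Γ(X, U x) := fun x => θ.hom.app (U x) (AmpleX.powElt (e x) d)
  have ha : ∀ x, IsUnit (a x) := fun x => isUnit_of_isFrame ((AmpleX.isFrame_powElt (he x) d).map_iso θ)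
  let D : Data X d :=
    { ι := X
      U := U
      hU := hU
      hcov := fun x => ⟨x, hxU x⟩
      a := a
      k := k
      k_self := fun i => by
        refine (he i).coord_unique inf_le_left ?_
        rw [one_smul]
        exact (hk i i).symm
      k_comp := fun i j l V hij hjl hil => by
        refine (he i).coord_unique (hij.trans inf_le_left) ?_
        rw [← hkV i l V hil, mul_comm, mul_smul, ← hkV i j V hij]
        exact hkV j l V hjl
      k_pow := fun i j => by
        have h1 := congrArg (fun z => θ.hom.app (U i ⊓ U j) (AmpleX.powElt z d)) (hk i j)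
        simp only [AmpleX.powElt_smul, ← AmpleX.res_powElt, Scheme.Modules.Hom.app_smul, AModX.app_res] at h1
        exact h1 }
  refine ⟨D.Z, D.π, D.isFinLocFreeOfDeg hd, fun hu => D.etale hd ha hu, ?_⟩
  refine TorsPic.nonempty_iso_of_frames (fun x : X => D.π ⁻¹ᵁ U x) (fun z => ⟨D.π z, hxU _⟩)
    (fun x => InvX.pullElt D.π (e x)) (fun x => InvX.isFrame_pullElt D.π (he x))
    (fun x => (show Γ(Coh.structureModule D.Z, D.π ⁻¹ᵁ U x) from D.η x))
    (fun x => isFrame_of_isUnit (D.isUnit_η hd ha x)) fun i j W hi hj g hg => ?_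
  have hW : W ≤ D.π ⁻¹ᵁ (U i ⊓ U j) := fun z hz => ⟨hi hz, hj hz⟩
  have h1 := congrArg (res _ hW) (congrArg (InvX.pullElt D.π) (hk i j))
  rw [InvX.pullElt_smul, ← InvX.res_pullElt, ← InvX.res_pullElt, res_smul, res_res, res_res] at h1
  have hgk : g = resR hW (D.π.app (U i ⊓ U j) (k i j)) :=
    (InvX.isFrame_pullElt D.π (he i)).coord_unique hi (hg.symm.trans h1)
  rw [hgk]
  exact D.η_eq i j hW

end Groth.Agent.RootCover
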