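import Groth.Agent.RootCover.Glue
import Groth.Agent.Hensel.EtaleResidueExt
import Groth.Prelude.Def_Mor2
import Mathlib.AlgebraicGeometry.Morphisms.Etale

/-!
# The glued scheme of roots is finite locally free, étale when the degree is invertible
-/

set_option autoImplicit false
set_option backward.isDefEq.respectTransparency false
set_option backward.isDefEq.respectTransparency.types false
set_option linter.style.haveILetI false

universe u

open CategoryTheory CategoryTheory.Limits AlgebraicGeometry Polynomial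

namespace Groth.Agent.RootCover

open Groth.Agent.AModX

noncomputable section

variable {X : Scheme.{u}} {d : ℕ}

section Affine

variable {U : X.Opens} (hU : IsAffineOpen U) (a : Γ(X, U))

/-- The map of rings of the scheme of roots. -/
abbrev ofHom' : Γ(X, U) ⟶ CommRingCat.of (Rt a d) := CommRingCat.ofHom (AdjoinRoot.of _)

variable (hd : 0 < d)
include hd

lemma finite_of : (AdjoinRoot.of (Polynomial.X ^ d - C a : Γ(X, U)[X])).Finite := by
  haveI := (monic_X_pow_sub_C a hd.ne').finite_adjoinRoot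
  exact RingHom.finite_algebraMap.mpr inferInstance

lemma flat_of : (AdjoinRoot.of (Polynomial.X ^ d - C a : Γ(X, U)[X])).Flat := by
  haveI := (monic_X_pow_sub_C a hd.ne').free_adjoinRoot
  exact RingHom.flat_algebraMap_iff.mpr inferInstance

omit hd in
lemma finitePresentation_of : (AdjoinRoot.of (Polynomial.X ^ d - C a : Γ(X, U)[X])).FinitePresentation :=
  RingHom.finitePresentation_algebraMap.mpr inferInstance

lemma etale_of (ha : IsUnit a) (hu : IsUnit (d : Γ(X, U))) :
    (AdjoinRoot.of (Polynomial.X ^ d - C a : Γ(X, U)[X])).Etale := by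
  refine RingHom.etale_algebraMap.mpr (Hensel.etale_adjoinRoot (monic_X_pow_sub_C a hd.ne') ?_)
  have h := AdjoinRoot.eval₂_root (Polynomial.X ^ d - C a : Γ(X, U)[X])
  rw [eval₂_sub, eval₂_X_pow, eval₂_C, sub_eq_zero] at h
  have hr : IsUnit (AdjoinRoot.root (Polynomial.X ^ d - C a : Γ(X, U)[X])) :=
    (isUnit_pow_iff hd.ne').1 (h ▸ ha.map _)
  rw [derivative_sub, derivative_C, sub_zero, derivative_X_pow, map_mul, map_pow, aeval_C, aeval_X]
  refine IsUnit.mul ?_ (hr.pow _)
  rw [map_natCast]
  exact (map_natCast (algebraMap Γ(X, U) (Rt a d)) d) ▸ hu.map _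

lemma isFinite_toU : IsFinite (toU hU a d) :=
  (MorphismProperty.cancel_right_of_respectsIso @IsFinite _ _).2 ((IsFinite.SpecMap_iff _).2 (finite_of a hd))

lemma flat_toU : Flat (toU hU a d) :=
  (MorphismProperty.cancel_right_of_respectsIso @Flat _ _).2 (Flat.SpecMap_iff.2 (flat_of a hd))

lemma lfp_toU : LocallyOfFinitePresentation (toU hU a d) :=
  (MorphismProperty.cancel_right_of_respectsIso @LocallyOfFinitePresentation _ _).2
    ((LocallyOfFinitePresentation.SpecMap_iff _).2 (finitePresentation_of a))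

lemma etale_toU (ha : IsUnit a) (hu : IsUnit (d : Γ(X, U))) : Etale (toU hU a d) :=
  (MorphismProperty.cancel_right_of_respectsIso @Etale _ _).2
    ((HasRingHomProperty.Spec_iff (P := @Etale)).2 (etale_of a hd ha hu))

lemma finrank_toU (y : U.toScheme) : (toU hU a d).finrank y = d := by
  haveI := (monic_X_pow_sub_C a hd.ne').finite_adjoinRoot
  haveI := (monic_X_pow_sub_C a hd.ne').free_adjoinRoot
  haveI : IsFinite (Spec.map (ofHom' (d := d) a)) := (IsFinite.SpecMap_iff _).2 (finite_of a hd)
  haveI : Flat (Spec.map (ofHom' (d := d) a)) := Flat.SpecMap_iff.2 (flat_of a hd)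
  have hsq : IsPullback (𝟙 _) (toU hU a d) (Spec.map (ofHom' (d := d) a)) hU.isoSpec.hom :=
    IsPullback.of_horiz_isIso ⟨by rw [Category.id_comp, toU, Category.assoc, Iso.inv_hom_id, Category.comp_id]⟩
  rw [Scheme.Hom.finrank_of_isPullback _ _ _ _ hsq y]
  refine (Scheme.Hom.finrank_SpecMap_algebraMap Γ(X, U) (Rt a d) _).trans ?_
  haveI : Nontrivial Γ(X, U) := (X.presheaf.germ U y.1 y.2).hom.domain_nontrivial
  rw [Module.rankAtStalk_eq_finrank_of_free, Pi.natCast_apply, Nat.cast_id,
    (AdjoinRoot.powerBasis' (monic_X_pow_sub_C a hd.ne')).finrank, AdjoinRoot.powerBasis'_dim]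
  exact natDegree_X_pow_sub_C

end Affine

namespace Data

variable (D : Data X d)

lemma prop_π (P : MorphismProperty Scheme.{u}) [IsZariskiLocalAtTarget P] (h : ∀ i, P (D.p i)) : P D.π := by
  refine IsZariskiLocalAtTarget.of_openCover (P := P)
    (X.openCoverOfIsOpenCover D.U (TopologicalSpace.IsOpenCover.mk (eq_top_iff.2 fun x _ =>
      TopologicalSpace.Opens.mem_iSup.2 (D.hcov x)))) fun i => ?_
  show P (pullback.snd D.π (D.U i).ι)
  rw [← MorphismProperty.cancel_left_of_respectsIso P (D.isPullback i).flip.isoPullback.hom,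
    IsPullback.isoPullback_hom_snd]
  exact h i

variable (hd : 0 < d)
include hd

lemma isFinLocFree : Mor2.IsFinLocFree D.π :=
  ⟨D.prop_π @IsFinite fun i => isFinite_toU (D.hU i) _ hd,
    D.prop_π @Flat fun i => flat_toU (D.hU i) _ hd,
    D.prop_π @LocallyOfFinitePresentation fun i => lfp_toU (D.hU i) _ hd⟩

lemma isFinLocFreeOfDeg : Mor2.IsFinLocFreeOfDeg d D.π := by
  refine ⟨D.isFinLocFree hd, fun y => ?_⟩
  obtain ⟨i, hi⟩ := D.hcov y
  haveI := (D.isFinLocFree hd).1
  haveI := (D.isFinLocFree hd).2.1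
  have h := Scheme.Hom.finrank_of_isPullback _ _ _ _ (D.isPullback i).flip ⟨y, hi⟩
  rw [finrank_toU (D.hU i) _ hd] at h
  exact h.symm

lemma etale (ha : ∀ i, IsUnit (D.a i)) (hu : IsUnit (d : Γ(X, ⊤))) : Etale D.π :=
  D.prop_π @Etale fun i => etale_toU (D.hU i) _ hd (ha i)
    (map_natCast (resR (le_top : D.U i ≤ ⊤)) d ▸ hu.map _)

end Data

end

end Groth.Agent.RootCover
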